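import Cfsg.Agent.TTModule.Meet

/-!
Uniqueness of the generating class of 3-transpositions over an elementary abelian 2-core.
-/

set_option autoImplicit false
set_option linter.style.haveILetI false

namespace CfsgLib.TTModule

universe u

variable {G : Type*} {Q : Type u} {A : Type*} [Group G] [Group Q] [AddCommGroup A] {S : Ext G Q A}
  {D E : Set G}

/-- `d` and `a` in `D` with partners `d ι v`, `a ι u` in `E`: the sum `v + u` lies in `U d + U a`. -/
theorem pair_meet (C : Cls S D) (C' : Cls S E) {d a : G} {v u : A} (hd : d ∈ D) (ha : a ∈ D)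
    (he : d * S.ι v ∈ E) (hf : a * S.ι u ∈ E) (h : ¬ Commute (S.π d) (S.π a)) :
    ∃ x ∈ S.U d, ∃ y ∈ S.U a, v + u = x + y := by
  have hn : ¬ Commute (d * S.ι v) (a * S.ι u) := fun hh => h (by
    have := hh.map S.π
    rwa [map_mul, map_mul, S.π_ι, S.π_ι, mul_one, mul_one] at this)
  have h1 := ThreeT.cube_of_not_commute C'.ts he hf hn
  have h0 := ThreeT.cube_of_not_commute C.ts hd ha (fun hh => h (hh.map S.π))
  have hsplit : (d * a) ^ 3 = d * a * (d * a) * (d * a) := by rw [pow_three, ← mul_assoc]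
  set s := S.ρ a v + u with hs
  have e : d * S.ι v * (a * S.ι u) = d * a * S.ι s := by
    calc d * S.ι v * (a * S.ι u) = d * (S.ι v * a) * S.ι u := by group
      _ = d * (a * S.ι (S.ρ a v)) * S.ι u := by rw [S.ι_mul, C.inv ha]
      _ = d * a * (S.ι (S.ρ a v) * S.ι u) := by group
      _ = d * a * S.ι s := by rw [← S.ι_add]
  have e2 : (d * a * S.ι s) ^ 3
      = S.ι (S.ρ (d * a) s + (S.ρ (d * a * (d * a)) s + s)) * ((d * a) ^ 3) := by
    have h3 : S.ρ (d * a * (d * a) * (d * a)) s = s := by rw [← hsplit, h0, S.ρ_one]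
    calc (d * a * S.ι s) ^ 3
        = (d * a * S.ι s * (d * a)⁻¹) * (d * a * (d * a) * S.ι s * (d * a * (d * a))⁻¹) *
          (d * a * (d * a) * (d * a) * S.ι s * (d * a * (d * a) * (d * a))⁻¹) *
          (d * a * (d * a) * (d * a)) := by rw [pow_three]; group
      _ = _ := by rw [S.ρ_spec, S.ρ_spec, S.ρ_spec, h3, ← S.ι_add, ← S.ι_add, add_assoc, hsplit]
  rw [e, e2, h0, mul_one, ← S.ι_zero] at h1
  have hzero := S.ι_inj h1
  have hsq : S.ρ (d * a * (d * a)) s = S.ρ a (S.ρ d s) := by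
    have e3 : d * a * (d * a) = a * d := by
      calc d * a * (d * a) = (d * a) ^ 3 * (d * a)⁻¹ := by rw [pow_three]; group
        _ = a * d := by rw [h0, one_mul, mul_inv_rev, C.inv ha, C.inv hd]
    rw [e3, S.ρ_mul]
  rw [hsq, S.ρ_mul, S.ρ_eq a (S.ρ d s), S.ρ_eq d (S.ρ a s), S.ρ_eq a s, S.ρ_eq d s, map_add (S.δ d) s,
    map_add (S.δ a) s] at hzero
  set x := S.δ d (S.δ a s)
  set y := S.δ a (S.δ d s)
  have hs' : s = (x + y) := S.eq_of_add_eq_zero (by
    rw [← hzero]
    calc s + (x + y) = (s + s) + ((s + (x + y)) + (S.δ a s + S.δ a s) + (S.δ d s + S.δ d s)) := by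
          rw [S.two, S.two, S.two, zero_add, add_zero, add_zero]
      _ = _ := by abel)
  refine ⟨x, S.δ_mem _ _, y + S.δ a v, add_mem (S.δ_mem _ _) (S.δ_mem _ _), ?_⟩
  calc v + u = s + S.δ a v := by
        rw [hs, S.δ_apply]
        calc v + u = v + u + (S.ρ a v + S.ρ a v) := by rw [S.two, add_zero]
          _ = _ := by abel
    _ = x + y + S.δ a v := by rw [hs']
    _ = _ := by abel

/-- Commuting images: the translations are compatible. -/
theorem commute_rel (C : Cls S D) (C' : Cls S E) {a b : G} {u t : A} (ha : a ∈ D) (hb : b ∈ D)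
    (hf : a * S.ι u ∈ E) (hg : b * S.ι t ∈ E) (h : Commute (S.π a) (S.π b)) :
    S.δ b u = S.δ a t := by
  have h1 := C'.commute_of_π hf hg (by rwa [map_mul, map_mul, S.π_ι, S.π_ι, mul_one, mul_one])
  have e : ∀ (p q : G) (i j : A), q⁻¹ = q → p * S.ι i * (q * S.ι j) = p * q * S.ι (S.ρ q i + j) := by
    intro p q i j hq
    calc p * S.ι i * (q * S.ι j) = p * (S.ι i * q) * S.ι j := by group
      _ = p * (q * S.ι (S.ρ q i)) * S.ι j := by rw [S.ι_mul, hq]
      _ = p * q * (S.ι (S.ρ q i) * S.ι j) := by group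
      _ = _ := by rw [← S.ι_add]
  have h2 := h1.eq
  rw [e a b u t (C.inv hb), e b a t u (C.inv ha), (C.commute_of_π ha hb h).eq] at h2
  have h3 := S.ι_inj (mul_left_cancel h2)
  rw [S.δ_apply, S.δ_apply]
  calc u + S.ρ b u = u + (S.ρ b u + t) + t := by
        calc u + S.ρ b u = u + S.ρ b u + (t + t) := by rw [S.two, add_zero]
          _ = _ := by abel
    _ = u + (S.ρ a t + u) + t := by rw [h3]
    _ = (u + u) + (t + S.ρ a t) := by abel
    _ = _ := by rw [S.two, zero_add]

theorem fixed_of_partner (C : Cls S D) (C' : Cls S E) {d : G} {v : A} (hd : d ∈ D) (he : d * S.ι v ∈ E) :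
    S.ρ d v = v := by
  have h1 := C'.sq he
  have e : d * S.ι v * (d * S.ι v) = S.ι (S.ρ d v + v) := by
    calc d * S.ι v * (d * S.ι v) = d * (S.ι v * d) * S.ι v := by group
      _ = d * (d * S.ι (S.ρ d v)) * S.ι v := by rw [S.ι_mul, C.inv hd]
      _ = (d * d) * (S.ι (S.ρ d v) * S.ι v) := by group
      _ = _ := by rw [C.sq hd, one_mul, ← S.ι_add]
  rw [e, ← S.ι_zero] at h1
  exact S.eq_of_add_eq_zero (S.ι_inj h1)

theorem consistent_commute [Finite A] [Finite Q] (C : Cls S D) (C' : Cls S E) {d a b : G} {u t y z δ : A}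
    (hd : d ∈ D) (ha : a ∈ D) (hb : b ∈ D) (hf : a * S.ι u ∈ E) (hg : b * S.ι t ∈ E)
    (hda : ¬ Commute (S.π d) (S.π a)) (hy : y ∈ S.U a) (hz : z ∈ S.U b) (hδ : δ ∈ S.U d)
    (hab : Commute (S.π a) (S.π b)) (h : δ = u + y + (t + z)) : δ = 0 := by
  have z1 : S.δ a z = 0 := (S.δ_eq_zero_iff _ _).2 (C.fix_of_commute hb ha hab.symm hz)
  have z2 : S.δ b y = 0 := (S.δ_eq_zero_iff _ _).2 (C.fix_of_commute ha hb hab hy)
  have za : S.δ a (u + y) = 0 := (S.δ_eq_zero_iff _ _).2 (by
    rw [map_add, fixed_of_partner C C' ha hf, C.fix_U ha hy])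
  have zb : S.δ b (t + z) = 0 := (S.δ_eq_zero_iff _ _).2 (by
    rw [map_add, fixed_of_partner C C' hb hg, C.fix_U hb hz])
  have e1 : S.δ a δ = S.δ a t := by rw [h, map_add, za, zero_add, map_add, z1, add_zero]
  have e2 : S.δ b δ = S.δ b u := by rw [h, map_add, zb, add_zero, map_add, z2, add_zero]
  have e3 : S.δ a δ = S.δ b δ := by rw [e1, e2, commute_rel C C' ha hb hf hg hab]
  refine C.zero_of_not_commute hd ha hda hδ ((S.δ_eq_zero_iff _ _).1 ?_)
  by_contra h0
  have hπ : S.π a = S.π b := C.twin ha hb (S.δ_mem a δ) (e3 ▸ S.δ_mem b δ) h0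
  apply h0
  rw [h, map_add, za, zero_add, S.δ_congr hπ, zb]

theorem consistent [Finite A] [Finite Q] (C : Cls S D) (C' : Cls S E) {d a b : G} {v u t x₁ x₂ y z : A}
    (hd : d ∈ D) (ha : a ∈ D) (hb : b ∈ D) (he : d * S.ι v ∈ E) (hf : a * S.ι u ∈ E) (hg : b * S.ι t ∈ E)
    (hda : ¬ Commute (S.π d) (S.π a)) (hdb : ¬ Commute (S.π d) (S.π b))
    (hx₁ : x₁ ∈ S.U d) (hx₂ : x₂ ∈ S.U d) (hy : y ∈ S.U a) (hz : z ∈ S.U b)
    (h₁ : v + x₁ = u + y) (h₂ : v + x₂ = t + z) : x₁ = x₂ := by
  refine S.eq_of_add_eq_zero ?_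
  have hδ : x₁ + x₂ = u + y + (t + z) := by
    rw [← h₁, ← h₂]
    calc x₁ + x₂ = (v + v) + (x₁ + x₂) := by rw [S.two, zero_add]
      _ = _ := by abel
  by_cases hab : Commute (S.π a) (S.π b)
  · exact consistent_commute C C' hd ha hb hf hg hda hy hz (add_mem hx₁ hx₂) hab hδ
  by_cases hdc : Commute (S.π d) (S.π (a * b * a))
  · -- replace `b` by its conjugate under `d`
    have hg' : d * b * d * S.ι (S.ρ d t) ∈ E := by
      have h1 := C'.conj d _ hg
      have e : d * (b * S.ι t) * d⁻¹ = d * b * d * S.ι (S.ρ d t) := by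
        calc d * (b * S.ι t) * d⁻¹ = d * b * d⁻¹ * (d * S.ι t * d⁻¹) := by group
          _ = _ := by rw [S.ρ_spec, C.inv hd]
      rwa [e] at h1
    have hfixv : S.ρ d (t + z) = t + z := by
      rw [← h₂, map_add, fixed_of_partner C C' hd he, C.fix_U hd hx₂]
    have hδ' : x₁ + x₂ = u + y + (S.ρ d t + S.ρ d z) := by rw [← map_add, hfixv, hδ]
    have hbr := congrArg S.π (ThreeT.braid C.ts hd hb (fun hh => hdb (hh.map S.π)))
    have hab' : Commute (S.π a) (S.π (d * b * d)) := by
      have hbb : S.π b * S.π b = 1 := by rw [← map_mul, C.sq hb, map_one]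
      have haa : S.π a * S.π a = 1 := by rw [← map_mul, C.sq ha, map_one]
      -- conjugate `hdc` by `a`, then by `b`
      have c1 : Commute (S.π (a * d * a)) (S.π b) := by
        have := (ThreeT.commute_conj_iff (S.π a) _ _).2 hdc
        have i1 : (S.π a)⁻¹ = S.π a := inv_eq_of_mul_eq_one_right haa
        rw [i1, ← map_mul, ← map_mul, ← map_mul, ← map_mul] at this
        have e : a * (a * b * a) * a = b := by
          calc a * (a * b * a) * a = (a * a) * b * (a * a) := by group
            _ = b := by rw [C.sq ha, one_mul, mul_one]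
        rwa [e] at this
      rw [ThreeT.braid C.ts ha hd (fun hh => hda (hh.symm.map S.π))] at c1
      have := (ThreeT.commute_conj_iff (S.π d) _ _).2 c1
      have i2 : (S.π d)⁻¹ = S.π d := by rw [← map_inv, C.inv hd]
      rw [i2, ← map_mul, ← map_mul, ← map_mul, ← map_mul] at this
      have e : d * (d * a * d) * d = a := by
        calc d * (d * a * d) * d = (d * d) * a * (d * d) := by group
          _ = a := by rw [C.sq hd, one_mul, mul_one]
      rwa [e] at this
    exact consistent_commute C C' hd ha (C.cj hd hb) hf hg' hda hy (C.ρ_U_self hd hz)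
      (add_mem hx₁ hx₂) hab' hδ'
  · obtain ⟨p, hp, q, hq, hpq⟩ := pair_meet C C' ha hb hf hg hab
    have e : x₁ + x₂ = (p + y) + (q + z) := by
      rw [hδ]
      calc u + y + (t + z) = (u + t) + (y + z) := by abel
        _ = _ := by rw [hpq]; abel
    rw [e]
    exact triangle C ha hb hd hab hda hdb hdc (add_mem hp hy) (add_mem hq hz) (e ▸ add_mem hx₁ hx₂)

theorem class_eq [Finite A] [Finite Q] (C : Cls S D) (C' : Cls S E) : E = D := by
  -- every member of `D` has a partner in `E` with the same image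
  obtain ⟨a₀, ha₀, e₀, he₀, h₀⟩ := images_meet C C'
  have hpart : ∀ a ∈ D, ∃ u, a * S.ι u ∈ E := by
    intro a ha
    obtain ⟨g, rfl⟩ := C.single a₀ ha₀ a ha
    obtain ⟨u, hu⟩ := S.ker ((g * a₀ * g⁻¹)⁻¹ * (g * e₀ * g⁻¹)) (by rw [map_mul, map_inv, map_mul, map_mul, h₀, map_mul, map_mul, inv_mul_cancel])
    exact ⟨u, by rw [hu, mul_inv_cancel_left]; exact C'.conj g _ he₀⟩
  suffices hmem : ∃ d ∈ D, d ∈ E by
    obtain ⟨d, hd, hdE⟩ := hmem
    ext g
    constructor
    · intro hg
      obtain ⟨k, rfl⟩ := C'.single d hdE g hg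
      exact C.conj k d hd
    · intro hg
      obtain ⟨k, rfl⟩ := C.single d hd g hg
      exact C'.conj k d hdE
  obtain ⟨d, hd⟩ := C.nonempty
  obtain ⟨v, he⟩ := hpart d hd
  obtain ⟨a₁, ha₁, hn₁⟩ := C.exists_not_commute hd
  obtain ⟨u₁, hf₁⟩ := hpart a₁ ha₁
  obtain ⟨x₁, hx₁, y₁, hy₁, hxy₁⟩ := pair_meet C C' hd ha₁ he hf₁ hn₁
  have swap : ∀ {p q r s : A}, p + q = r + s → p + r = q + s := by
    intro p q r s h
    calc p + r = (p + q) + (q + r) := by
          calc p + r = p + r + (q + q) := by rw [S.two, add_zero]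
            _ = _ := by abel
      _ = (r + r) + (q + s) := by rw [h]; abel
      _ = _ := by rw [S.two, zero_add]
  set c := v + x₁ with hc
  have hρd : S.ρ d c = c := by rw [hc, map_add, fixed_of_partner C C' hd he, C.fix_U hd hx₁]
  have hfix : ∀ a ∈ D, ¬ Commute (S.π d) (S.π a) → S.ρ a c = c := by
    intro a ha hn
    obtain ⟨u, hf⟩ := hpart a ha
    obtain ⟨x, hx, y, hy, hxy⟩ := pair_meet C C' hd ha he hf hn
    have e : x₁ = x :=
      consistent C C' hd ha₁ ha he hf₁ hf hn₁ hn hx₁ hx hy₁ hy (swap hxy₁) (swap hxy)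
    rw [hc, e, swap hxy, map_add, fixed_of_partner C C' ha hf, C.fix_U ha hy]
  -- the subgroup generated by `d` and the members not commuting with it
  set s : Set G := {d} ∪ {a | a ∈ D ∧ ¬ Commute (S.π d) (S.π a)} with hs
  set K := Subgroup.closure s with hK
  have hKn : ∀ b ∈ D, b ∈ K ∨ ∀ g ∈ s, Commute b g := by
    intro b hb
    by_cases hbd : Commute (S.π d) (S.π b)
    · by_cases hall : ∀ a ∈ D, ¬ Commute (S.π d) (S.π a) → Commute b a
      · refine Or.inr ?_
        rintro g (rfl | ⟨hg, hgn⟩)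
        · exact (C.commute_of_π hd hb hbd).symm
        · exact hall g hg hgn
      · push Not at hall
        obtain ⟨a, ha, hna, hba⟩ := hall
        refine Or.inl ?_
        have m1 : a ∈ K := Subgroup.subset_closure (Or.inr ⟨ha, hna⟩)
        have m2 : b * a * b ∈ K := by
          refine Subgroup.subset_closure (Or.inr ⟨C.cj hb ha, fun hh => hna ?_⟩)
          have hbb : S.π b * S.π b = 1 := by rw [← map_mul, C.sq hb, map_one]
          rw [map_mul, map_mul] at hh
          have e : S.π a = S.π b * (S.π b * S.π a * S.π b) * S.π b := by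
            calc S.π a = (S.π b * S.π b) * S.π a * (S.π b * S.π b) := by rw [hbb, one_mul, mul_one]
              _ = _ := by group
          rw [e]
          exact (hbd.mul_right hh).mul_right hbd
        have e : b = a * (b * a * b) * a := by
          rw [ThreeT.braid C.ts hb ha hba]
          calc b = (a * a) * b * (a * a) := by rw [C.sq ha, one_mul, mul_one]
            _ = _ := by group
        rw [e]; exact mul_mem (mul_mem m1 m2) m1
    · exact Or.inl (Subgroup.subset_closure (Or.inr ⟨hb, hbd⟩))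
  have hnorm : ∀ g : G, ∀ k ∈ K, g * k * g⁻¹ ∈ K := by
    have hDn : ∀ b ∈ D, b ∈ Subgroup.normalizer (K : Set G) := by
      intro b hb
      rcases hKn b hb with h | h
      · exact Subgroup.le_normalizer h
      · refine Subgroup.centralizer_le_normalizer _ ?_
        rw [hK, Subgroup.centralizer_closure]
        exact Subgroup.mem_centralizer_iff.2 fun g hg => (h g hg).symm.eq
    intro g k hk
    have hg : g ∈ Subgroup.normalizer (K : Set G) :=
      (C.gen ▸ (Subgroup.closure_le _).2 hDn : (⊤ : Subgroup G) ≤ _) trivial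
    exact (Subgroup.mem_normalizer_iff.1 hg k).1 hk
  have hDK : ∀ b ∈ D, b ∈ K := by
    intro b hb
    obtain ⟨g, rfl⟩ := C.single d hd b hb
    exact hnorm g d (Subgroup.subset_closure (Or.inl rfl))
  have hfixK : ∀ k ∈ K, S.ρ k c = c := by
    intro k hk
    induction hk using Subgroup.closure_induction with
    | mem g hg =>
      rcases hg with rfl | ⟨hg, hgn⟩
      · exact hρd
      · exact hfix g hg hgn
    | one => exact S.ρ_one c
    | mul p q _ _ ip iq => rw [S.ρ_mul, iq, ip]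
    | inv p _ ip =>
      conv_lhs => rw [← ip]
      rw [← S.ρ_mul, inv_mul_cancel, S.ρ_one]
  have hc0 : c = 0 := by
    by_contra h0
    -- `ι c` is central, hence trivial
    have hcen : ∀ g : G, Commute g (S.ι c) := by
      intro g
      have hg : g ∈ K := (C.gen ▸ (Subgroup.closure_le _).2 hDK : (⊤ : Subgroup G) ≤ K) trivial
      exact S.commute_ι_iff.2 (hfixK g hg)
    exact h0 (S.centerfree c fun g => S.commute_ι_iff.1 (hcen g))
  refine ⟨d * S.ι x₁, C.trans hd hx₁, ?_⟩
  have hv : v = x₁ := S.eq_of_add_eq_zero (show v + x₁ = 0 from hc0)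
  rwa [← hv]

end CfsgLib.TTModule
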