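import Cfsg.Agent.TTModule.Setup

/-!
Two generating classes of 3-transpositions over an elementary abelian 2-core have a common image.
-/

set_option autoImplicit false
set_option linter.style.haveILetI false

namespace CfsgLib.TTModule

universe u

variable {G : Type*} {Q : Type u} {A : Type*} [Group G] [Group Q] [AddCommGroup A] {S : Ext G Q A}
  {D E : Set G}

theorem fix_zero_of_conj (C : Cls S D) (C' : Cls S E) {a e : G} (ha : a ∈ D) (he : e ∈ E)
    (h : ¬ Commute (S.π e) (S.π (a * e * a))) {w : A} (hw : w ∈ S.U e) (hf : S.ρ a w = w) : w = 0 := by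
  refine C'.zero_of_not_commute he ?_ h hw ?_
  · simpa [C.inv ha] using C'.conj a e he
  · rw [S.ρ_mul, S.ρ_mul, hf, C'.fix_U he hw, hf]

theorem δ_injOn (S : Ext G Q A) {a e : G} (hz : ∀ w ∈ S.U e, S.ρ a w = w → w = 0) {x y : A}
    (hx : x ∈ S.U e) (hy : y ∈ S.U e) (h : S.δ a x = S.δ a y) : x = y := by
  refine S.eq_of_add_eq_zero (hz _ (add_mem hx hy) ((S.δ_eq_zero_iff _ _).1 ?_))
  rw [map_add, h, S.two]

theorem δ_surjOn [Finite A] (S : Ext G Q A) {a e : G} (h1 : ∀ w ∈ S.U e, S.ρ a w = w → w = 0)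
    (h2 : ∀ w ∈ S.U a, S.ρ e w = w → w = 0) {y : A} (hy : y ∈ S.U a) : ∃ x ∈ S.U e, S.δ a x = y := by
  let f : S.U e → S.U a := fun x => ⟨S.δ a x, S.δ_mem a x⟩
  let g : S.U a → S.U e := fun x => ⟨S.δ e x, S.δ_mem e x⟩
  have hf : Function.Injective f := fun x y h => Subtype.ext (δ_injOn S h1 x.2 y.2 (congrArg Subtype.val h))
  have hg : Function.Injective g := fun x y h => Subtype.ext (δ_injOn S h2 x.2 y.2 (congrArg Subtype.val h))
  have hb : Function.Bijective f := (Nat.bijective_iff_injective_and_card f).2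
    ⟨hf, le_antisymm (Nat.card_le_card_of_injective f hf) (Nat.card_le_card_of_injective g hg)⟩
  obtain ⟨x, hx⟩ := hb.2 ⟨y, hy⟩
  exact ⟨x, x.2, congrArg Subtype.val hx⟩

theorem conj_not_commute [Finite A] [Finite Q] (C : Cls S D) (C' : Cls S E) {a e : G} (ha : a ∈ D)
    (he : e ∈ E) (h : ¬ Commute (S.π a) (S.π e)) : ¬ Commute (S.π e) (S.π (a * e * a)) := by
  intro hc
  have he' : a * e * a ∈ E := by simpa [C.inv ha] using C'.conj a e he
  have ha' : e * a * e ∈ D := by simpa [C'.inv he] using C.conj e a ha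
  have hpa : S.π a * S.π a = 1 := by rw [← map_mul, C.sq ha, map_one]
  have hpe : S.π e * S.π e = 1 := by rw [← map_mul, C'.sq he, map_one]
  have hne : S.π (a * e * a) ≠ S.π e := by
    intro hh
    apply h
    rw [map_mul, map_mul] at hh
    calc S.π a * S.π e = S.π a * S.π e * S.π a * S.π a := by rw [mul_assoc _ (S.π a) (S.π a), hpa, mul_one]
      _ = S.π e * S.π a := by rw [hh]
  have hne' : S.π (e * a * e) ≠ S.π a := by
    intro hh
    apply h
    rw [map_mul, map_mul] at hh
    symm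
    calc S.π e * S.π a = S.π e * S.π a * S.π e * S.π e := by rw [mul_assoc _ (S.π e) (S.π e), hpe, mul_one]
      _ = S.π a * S.π e := by rw [hh]
  have z1 : ∀ w ∈ S.U e, S.ρ a w = w → w = 0 := by
    intro w hw hf
    by_contra h0
    have hw' := C.ρ_U_self ha hw
    rw [hf] at hw'
    exact hne (C'.twin he' he hw' hw h0)
  have hfix : ∀ x ∈ S.U e, S.ρ e (S.δ a x) = S.δ a x := by
    intro x hx
    rw [S.δ_apply, map_add, C'.fix_U he hx, C'.fix_of_commute he' he hc.symm (C.ρ_U_self ha hx)]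
  obtain ⟨x₀, hx₀, hx0⟩ := C'.exists_ne_zero he
  have hy0 : S.δ a x₀ ≠ 0 := fun h0 => hx0 (z1 _ hx₀ ((S.δ_eq_zero_iff _ _).1 h0))
  have hc' : Commute (S.π a) (S.π (e * a * e)) := by
    by_contra hn
    exact hy0 (fix_zero_of_conj C' C he ha hn (S.δ_mem a x₀) (hfix _ hx₀))
  have z2 : ∀ w ∈ S.U a, S.ρ e w = w → w = 0 := by
    intro w hw hf
    by_contra h0
    have hw' := C'.ρ_U_self he hw
    rw [hf] at hw'
    exact hne' (C.twin ha' ha hw' hw h0)
  exact hy0 (z2 _ (S.δ_mem a x₀) (hfix _ hx₀))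

/-- The configuration attached to a commuting pair of members of the two classes. -/
theorem pair [Finite A] [Finite Q] (C : Cls S D) (C' : Cls S E) {a e : G} (ha : a ∈ D) (he : e ∈ E)
    (h : ¬ Commute (S.π a) (S.π e)) :
    Commute (S.π a) (S.π (e * (a * e * a) * e)) ∧
    (∃ w ∈ S.U a, w ∈ S.U (e * (a * e * a) * e) ∧ w ≠ 0) ∧
    (∀ w ∈ S.U (e * (a * e * a) * e), S.ρ a w = w → w ∈ S.U a) ∧
    (∀ w ∈ S.U (e * (a * e * a) * e), ∃ u ∈ S.U a, ∃ u' ∈ S.U (e * a * e), w = u + u') ∧
    ¬ Commute (S.π a) (S.π (e * a * e)) ∧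
    (e * (a * e * a) * e) * (e * a * e) * (e * (a * e * a) * e) = a * (e * a * e) * a := by
  have he' : a * e * a ∈ E := by simpa [C.inv ha] using C'.conj a e he
  have hb : e * (a * e * a) * e ∈ E := C'.cj he he'
  have hn := conj_not_commute C C' ha he h
  have hn' : ¬ Commute (S.π a) (S.π (e * a * e)) :=
    conj_not_commute C' C he ha (fun hh => h hh.symm)
  have hbr := ThreeT.braid C'.ts he he' (fun hh => hn (hh.map S.π))
  have hea : e * e = 1 := C'.sq he
  have haa : a * a = 1 := C.sq ha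
  have haba : a * (e * (a * e * a) * e) * a = e * (a * e * a) * e := by
    calc a * (e * (a * e * a) * e) * a = a * e * a * e * (a * e * a) := by group
      _ = _ := hbr.symm
  have z1 : ∀ w ∈ S.U e, S.ρ a w = w → w = 0 := fun w hw hf => fix_zero_of_conj C C' ha he hn hw hf
  have z2 : ∀ w ∈ S.U a, S.ρ e w = w → w = 0 := fun w hw hf => fix_zero_of_conj C' C he ha hn' hw hf
  -- every member of `U b` is a sum from `U e` and `U e'`
  have hdec : ∀ w ∈ S.U (e * (a * e * a) * e), ∃ x ∈ S.U e, ∃ x₂ ∈ S.U e, w = x + S.ρ a x₂ := by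
    intro w hw
    have hy : S.ρ e w ∈ S.U (a * e * a) := by
      have h1 := C'.ρ_U_self he hw
      have e1 : e * (e * (a * e * a) * e) * e = a * e * a := by
        calc e * (e * (a * e * a) * e) * e = (e * e) * (a * e * a) * (e * e) := by group
          _ = a * e * a := by rw [hea, one_mul, mul_one]
      rwa [e1] at h1
    have hx2 : S.ρ a (S.ρ e w) ∈ S.U e := by
      have h1 := C.ρ_U_self ha hy
      have e1 : a * (a * e * a) * a = e := by
        calc a * (a * e * a) * a = (a * a) * e * (a * a) := by group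
          _ = e := by rw [haa, one_mul, mul_one]
      rwa [e1] at h1
    refine ⟨S.δ e (S.ρ e w), S.δ_mem _ _, _, hx2, ?_⟩
    rw [C.ρ_ρ ha, S.δ_apply, C'.ρ_ρ he, add_comm (S.ρ e w) w, add_assoc, S.two, add_zero]
  have habc : Commute (S.π a) (S.π (e * (a * e * a) * e)) := by
    have h1 := congrArg (fun t => S.π (t * a)) haba
    simp only [mul_assoc _ a a, haa, mul_one] at h1
    exact ((show S.π (a * (e * (a * e * a) * e)) = S.π ((e * (a * e * a) * e) * a) from h1) |>
      fun h2 => by rwa [map_mul, map_mul S.π (e * (a * e * a) * e) a] at h2)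
  refine ⟨habc, ?_, ?_, ?_, hn', ?_⟩
  · obtain ⟨w, hw, hw0⟩ := C'.exists_ne_zero hb
    by_cases hd : S.δ a w = 0
    · have hf := (S.δ_eq_zero_iff _ _).1 hd
      obtain ⟨x, hx, x₂, hx₂, rfl⟩ := hdec w hw
      refine ⟨_, ?_, hw, hw0⟩
      have h1 : S.δ a (x + x₂) = 0 := by
        rw [map_add, S.δ_apply a x, S.δ_apply a x₂]
        rw [map_add, C.ρ_ρ ha] at hf
        calc x + S.ρ a x + (x₂ + S.ρ a x₂) = (S.ρ a x + x₂) + (x + S.ρ a x₂) := by abel
          _ = 0 := by rw [hf, S.two]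
      rw [← S.eq_of_add_eq_zero (z1 _ (add_mem hx hx₂) ((S.δ_eq_zero_iff _ _).1 h1)), ← S.δ_apply]
      exact S.δ_mem _ _
    · refine ⟨_, S.δ_mem a w, ?_, hd⟩
      rw [S.δ_apply]
      refine add_mem hw ?_
      have h1 := C.ρ_U_self ha hw
      rwa [haba] at h1
  · intro w hw hf
    obtain ⟨x, hx, x₂, hx₂, rfl⟩ := hdec w hw
    have h1 : S.δ a (x + x₂) = 0 := by
      rw [map_add, S.δ_apply a x, S.δ_apply a x₂]
      rw [map_add, C.ρ_ρ ha] at hf
      calc x + S.ρ a x + (x₂ + S.ρ a x₂) = (S.ρ a x + x₂) + (x + S.ρ a x₂) := by abel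
        _ = 0 := by rw [hf, S.two]
    rw [← S.eq_of_add_eq_zero (z1 _ (add_mem hx hx₂) ((S.δ_eq_zero_iff _ _).1 h1)), ← S.δ_apply]
    exact S.δ_mem _ _
  · intro w hw
    obtain ⟨x, hx, x₂, hx₂, rfl⟩ := hdec w hw
    obtain ⟨z, hz, rfl⟩ := δ_surjOn S z2 z1 hx
    obtain ⟨z', hz', rfl⟩ := δ_surjOn S z2 z1 hx₂
    refine ⟨z + (z' + S.δ a (S.ρ e z')), add_mem hz (add_mem hz' (S.δ_mem _ _)), S.ρ e z + S.ρ e z',
      add_mem (C'.ρ_U_self he hz) (C'.ρ_U_self he hz'), ?_⟩
    rw [S.δ_apply e z, S.δ_apply e z', map_add, C.fix_U ha hz', S.ρ_eq a (S.ρ e z')]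
    abel
  · have e1 : (e * (a * e * a) * e) * (e * a * e) * (e * (a * e * a) * e)
        = e * a * e * a * e * a * e := by
      calc (e * (a * e * a) * e) * (e * a * e) * (e * (a * e * a) * e)
          = e * a * e * a * (e * e) * a * (e * e) * a * e * a * e := by group
        _ = e * a * e * (a * a) * (a * e * a * e) := by rw [hea]; group
        _ = e * a * e * (a * e * a * e) := by rw [haa]; group
        _ = e * a * e * a * e * a * e := by group
    have e2 : e * a * e * a * e = a * e * a * e * a * e * a := by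
      calc e * a * e * a * e = e * (a * e * a) * e := by group
        _ = a * e * a * e * (a * e * a) := by rw [hbr]
        _ = a * e * a * e * a * e * a := by group
    rw [e1]
    calc e * a * e * a * e * a * e = (e * a * e * a * e) * (a * e) := by group
      _ = a * e * a * e * a * (e * (a * a) * e) := by rw [e2]; group
      _ = a * (e * a * e) * a := by rw [haa, mul_one, hea]; group

/-- In a triangle of three non-commuting members the three spaces `U` are independent. -/
theorem triangle (C : Cls S D) {a a' d : G} (ha : a ∈ D) (ha' : a' ∈ D) (hd : d ∈ D)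
    (h1 : ¬ Commute (S.π a) (S.π a')) (h2 : ¬ Commute (S.π d) (S.π a))
    (h3 : ¬ Commute (S.π d) (S.π a')) (h4 : ¬ Commute (S.π d) (S.π (a * a' * a))) {u u' : A}
    (hu : u ∈ S.U a) (hu' : u' ∈ S.U a') (hj : u + u' ∈ S.U d) : u + u' = 0 := by
  have hγ : S.δ d (u + u') = 0 := (S.δ_eq_zero_iff _ _).2 (C.fix_U hd hj)
  rw [map_add] at hγ
  have hp' : S.δ d u = S.δ d u' := S.eq_of_add_eq_zero hγ
  have hau : S.δ a u = 0 := (S.δ_eq_zero_iff _ _).2 (C.fix_U ha hu)
  have hau' : S.δ a' u' = 0 := (S.δ_eq_zero_iff _ _).2 (C.fix_U ha' hu')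
  have eu : S.δ a (S.δ d u) = u := C.αβ ha hd (fun hh => h2 hh.symm) hu
  have eu' : S.δ a' (S.δ d u) = u' := by rw [hp']; exact C.αβ ha' hd (fun hh => h3 hh.symm) hu'
  have j1 : S.δ d (S.δ a u') = u + u' := by
    have := C.αβ hd ha h2 hj
    rwa [map_add (S.δ a), hau, zero_add] at this
  have j2 : S.δ d (S.δ a' u) = u + u' := by
    have := C.αβ hd ha' h3 hj
    rwa [map_add (S.δ a'), hau', add_zero] at this
  set p := S.δ d u with hp
  have hε : S.δ (a * a' * a) p = u + u' + S.δ a u' + S.δ a' u := by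
    have e3 : S.δ a (S.δ a' u) = u := C.αβ ha ha' h1 hu
    have e4 : S.ρ a' (p + u) = p + u' + (u + S.δ a' u) := by
      rw [map_add, S.ρ_eq a' p, S.ρ_eq a' u, eu']
    rw [S.δ_apply, S.ρ_mul, S.ρ_mul, S.ρ_eq a p, eu, e4, map_add, map_add, map_add, S.ρ_eq a p, eu,
      S.ρ_eq a u', C.fix_U ha hu, S.ρ_eq a (S.δ a' u), e3]
    calc p + (p + u + (u' + S.δ a u') + (u + (S.δ a' u + u)))
        = (p + p) + (u + u) + (u + u' + S.δ a u' + S.δ a' u) := by abel
      _ = _ := by rw [S.two, S.two, zero_add, zero_add]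
  have hc : a * a' * a ∈ D := C.cj ha ha'
  have e5 := C.αβ hd hc h4 (S.δ_mem d u)
  rw [← hp, hε, map_add, map_add, map_add, j1, j2, ← hp, ← hp', S.two, zero_add, S.two] at e5
  rw [← eu, ← eu', ← e5, map_zero, map_zero, add_zero]

theorem images_meet [Finite A] [Finite Q] (C : Cls S D) (C' : Cls S E) :
    ∃ a ∈ D, ∃ e ∈ E, S.π a = S.π e := by
  obtain ⟨a, ha⟩ := C.nonempty
  obtain ⟨e, he, hae⟩ : ∃ e ∈ E, ¬ Commute (S.π a) (S.π e) := by
    by_contra hcon
    push Not at hcon
    refine C.out a ha (eq_one_of_commute_all S.core C'.image_gen ?_ ?_)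
    · rw [← map_mul, C.sq ha, map_one]
    · rintro _ ⟨f, hf, rfl⟩
      exact hcon f hf
  obtain ⟨hab, ⟨w, hwa, hwb, hw0⟩, hgood, hsum, hna, hbab⟩ := pair C C' ha he hae
  set b := e * (a * e * a) * e with hbdef
  set a' := e * a * e with ha'def
  have he' : a * e * a ∈ E := by simpa [C.inv ha] using C'.conj a e he
  have hb : b ∈ E := C'.cj he he'
  have ha' : a' ∈ D := by simpa [C'.inv he] using C.conj e a ha
  refine ⟨a, ha, b, hb, ?_⟩
  -- members commuting with `d` commute with `b` as soon as `U d` meets `U b`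
  have meet : ∀ {d : G}, d ∈ D → ∀ {v : A}, v ∈ S.U d → v ∈ S.U b → v ≠ 0 → ∀ {c : G}, c ∈ D →
      Commute (S.π d) (S.π c) → Commute (S.π c) (S.π b) := by
    intro d hd v hvd hvb hv c hc hdc
    by_contra hn
    exact hv (fix_zero_of_conj C C' hc hb (conj_not_commute C C' hc hb hn) hvb
      (C.fix_of_commute hd hc hdc hvd))
  have hba' : ¬ Commute (S.π b) (S.π a') := by
    intro hh
    apply hna
    have h1 : S.π (a * a' * a) = S.π a' := by
      rw [← hbab, map_mul, map_mul, hh.eq, mul_assoc, ← map_mul, C'.sq hb, map_one, mul_one]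
    have haa : S.π a * S.π a = 1 := by rw [← map_mul, C.sq ha, map_one]
    rw [map_mul, map_mul] at h1
    show S.π a * S.π a' = S.π a' * S.π a
    calc S.π a * S.π a' = S.π a * S.π a' * S.π a * S.π a := by rw [mul_assoc _ (S.π a) (S.π a), haa, mul_one]
      _ = S.π a' * S.π a := by rw [h1]
  have iff_b : ∀ {d : G}, d ∈ D → (Commute (S.π d) (S.π b) ↔ Commute (S.π d) (S.π a)) := by
    intro d hd
    refine ⟨fun hdb => ?_, fun hda => meet ha hwa hwb hw0 hd hda.symm⟩
    by_contra hn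
    have hv : S.δ d w ≠ 0 := fun h0 =>
      hw0 (C.zero_of_not_commute ha hd (fun hh => hn hh.symm) hwa ((S.δ_eq_zero_iff _ _).1 h0))
    have hvb : S.δ d w ∈ S.U b := by
      have e1 : S.π (d * b * d) = S.π b := by
        rw [map_mul, map_mul, hdb.eq, mul_assoc, ← map_mul, C.sq hd, map_one, mul_one]
      have h1 := C.ρ_U_self hd hwb
      rw [S.U_congr e1] at h1
      rw [S.δ_apply]
      exact add_mem hwb h1
    have n1 : ¬ Commute (S.π d) (S.π a') := fun hh =>
      hba' (meet hd (S.δ_mem d w) hvb hv ha' hh).symm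
    have n2 : ¬ Commute (S.π d) (S.π (a * a' * a)) := by
      intro hh
      apply hba'
      have h2 : Commute (S.π (a * a' * a)) (S.π b) := meet hd (S.δ_mem d w) hvb hv (C.cj ha ha') hh
      rw [← hbab, map_mul, map_mul] at h2
      have hbb : S.π b * S.π b = 1 := by rw [← map_mul, C'.sq hb, map_one]
      have h3 : S.π b * S.π a' * S.π b * S.π b = S.π b * (S.π b * S.π a' * S.π b) := h2.eq
      rw [mul_assoc (S.π b * S.π a'), hbb, mul_one, ← mul_assoc, ← mul_assoc, hbb, one_mul] at h3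
      exact h3
    obtain ⟨u, hu, u', hu', huu⟩ := hsum _ hvb
    rw [huu] at hv
    exact hv (triangle C ha ha' hd hna hn n1 n2 hu hu' (huu ▸ S.δ_mem d w))
  -- hence `a b` is central
  have hcent : ∀ d ∈ D, Commute (S.π a * S.π b) (S.π d) := by
    intro d hd
    by_cases hda : Commute (S.π d) (S.π a)
    · exact hda.symm.mul_left ((iff_b hd).2 hda).symm
    have hdb : ¬ Commute (S.π b) (S.π d) := fun hh => hda ((iff_b hd).1 hh.symm)
    obtain ⟨hbc, ⟨v, hvb, hvc, hv0⟩, hgoodc, -, -, -⟩ := pair C' C hb hd hdb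
    set c := d * (b * d * b) * d with hcdef
    have hbdb : b * d * b ∈ D := by simpa [C'.inv hb] using C.conj b d hd
    have hc : c ∈ D := C.cj hd hbdb
    have hca : Commute (S.π c) (S.π a) := (iff_b hc).1 hbc.symm
    have hva : v ∈ S.U a := hgood v hvb (C.fix_of_commute hc ha hca hvc)
    have hceq : S.π c = S.π a := C.twin hc ha hvc hva hv0
    have hbr := congrArg S.π (ThreeT.braid C.ts ha hd (fun hh => hda (hh.symm.map S.π)))
    simp only [hcdef, map_mul] at hceq hbr
    have hdd : S.π d * S.π d = 1 := by rw [← map_mul, C.sq hd, map_one]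
    have haa : S.π a * S.π a = 1 := by rw [← map_mul, C.sq ha, map_one]
    have hbb : S.π b * S.π b = 1 := by rw [← map_mul, C'.sq hb, map_one]
    have h5 : S.π b * S.π d * S.π b = S.π a * S.π d * S.π a := by
      rw [hbr]
      calc S.π b * S.π d * S.π b
          = (S.π d * S.π d) * (S.π b * S.π d * S.π b) * (S.π d * S.π d) := by rw [hdd, one_mul, mul_one]
        _ = S.π d * (S.π d * (S.π b * S.π d * S.π b) * S.π d) * S.π d := by group
        _ = S.π d * S.π a * S.π d := by rw [hceq]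
    show S.π a * S.π b * S.π d = S.π d * (S.π a * S.π b)
    calc S.π a * S.π b * S.π d = S.π a * (S.π b * S.π d * S.π b) * S.π b := by
          rw [mul_assoc (S.π a) (S.π b * S.π d * S.π b), mul_assoc (S.π b * S.π d) (S.π b), hbb, mul_one,
            ← mul_assoc]
      _ = (S.π a * S.π a) * S.π d * (S.π a * S.π b) := by rw [h5]; group
      _ = S.π d * (S.π a * S.π b) := by rw [haa, one_mul]
  have hz : S.π a * S.π b = 1 := by
    refine eq_one_of_commute_all S.core C.image_gen ?_ ?_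
    · have haa : S.π a * S.π a = 1 := by rw [← map_mul, C.sq ha, map_one]
      have hbb : S.π b * S.π b = 1 := by rw [← map_mul, C'.sq hb, map_one]
      rw [mul_assoc, ← mul_assoc (S.π b), ← hab.eq, mul_assoc (S.π a) (S.π b), hbb, mul_one, haa]
    · rintro _ ⟨d, hd, rfl⟩
      exact hcent d hd
  rw [eq_inv_of_mul_eq_one_left hz, ← map_inv, C'.inv hb]

end CfsgLib.TTModule
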