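import Cfsg.Agent.TTModule.Twins

/-!
3-transpositions of a group `G` acting on an elementary abelian normal 2-subgroup `A` with
quotient `Q`: the images `U_d = [A, d]` and their basic incidences.
-/

set_option autoImplicit false
set_option linter.style.haveILetI false

namespace CfsgLib.TTModule

universe u

/-- An elementary abelian normal 2-subgroup `A`, written additively, with self-centralizing action. -/
structure Ext (G : Type*) (Q : Type u) (A : Type*) [Group G] [Group Q] [AddCommGroup A] where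
  π : G →* Q
  surj : Function.Surjective π
  ι : A → G
  ι_add : ∀ a b, ι (a + b) = ι a * ι b
  ι_inj : Function.Injective ι
  π_ι : ∀ a, π (ι a) = 1
  ker : ∀ g, π g = 1 → ∃ a, ι a = g
  ρ : G → A →+ A
  ρ_spec : ∀ g a, g * ι a * g⁻¹ = ι (ρ g a)
  two : ∀ a : A, a + a = 0
  faith : ∀ g, (∀ a, ρ g a = a) → π g = 1
  centerfree : ∀ a, (∀ g, ρ g a = a) → a = 0
  core : Cfsg.pCore 2 Q = ⊥

variable {G : Type*} {Q : Type u} {A : Type*} [Group G] [Group Q] [AddCommGroup A] (S : Ext G Q A)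

theorem Ext.ι_zero : S.ι 0 = 1 := by
  have h := S.ι_add 0 0
  rw [add_zero] at h
  exact mul_eq_left.1 h.symm

include S in
theorem Ext.neg_eq (a : A) : -a = a := neg_eq_of_add_eq_zero_left (S.two a)

include S in
theorem Ext.eq_of_add_eq_zero {a b : A} (h : a + b = 0) : a = b := by
  rw [eq_neg_of_add_eq_zero_left h, S.neg_eq]

include S in
theorem Ext.add_cancel (a b : A) : a + (a + b) = b := by rw [← add_assoc, S.two, zero_add]

theorem Ext.ι_inv (a : A) : (S.ι a)⁻¹ = S.ι a :=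
  inv_eq_of_mul_eq_one_right (by rw [← S.ι_add, S.two, S.ι_zero])

theorem Ext.ι_comm (a b : A) : Commute (S.ι a) (S.ι b) := by
  show S.ι a * S.ι b = S.ι b * S.ι a
  rw [← S.ι_add, ← S.ι_add, add_comm]

theorem Ext.mul_ι (g : G) (a : A) : g * S.ι a = S.ι (S.ρ g a) * g := by
  rw [← S.ρ_spec, inv_mul_cancel_right]

theorem Ext.ι_mul (g : G) (a : A) : S.ι a * g = g * S.ι (S.ρ g⁻¹ a) := by
  rw [← S.ρ_spec, inv_inv]; group

theorem Ext.ρ_mul (g h : G) (a : A) : S.ρ (g * h) a = S.ρ g (S.ρ h a) := by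
  apply S.ι_inj
  rw [← S.ρ_spec, ← S.ρ_spec, ← S.ρ_spec]
  group

theorem Ext.ρ_one (a : A) : S.ρ 1 a = a := by
  apply S.ι_inj
  rw [← S.ρ_spec]
  group

theorem Ext.ρ_congr {g h : G} (e : S.π g = S.π h) (a : A) : S.ρ g a = S.ρ h a := by
  obtain ⟨b, hb⟩ := S.ker (h⁻¹ * g) (by rw [map_mul, map_inv, e, inv_mul_cancel])
  have hg : g = h * S.ι b := by rw [hb, mul_inv_cancel_left]
  have h0 : S.ρ (S.ι b) a = a := S.ι_inj (by rw [← S.ρ_spec, (S.ι_comm b a).eq, mul_inv_cancel_right])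
  rw [hg, S.ρ_mul, h0]

theorem Ext.commute_ι_iff {g : G} {a : A} : Commute g (S.ι a) ↔ S.ρ g a = a := by
  constructor
  · intro h
    exact S.ι_inj (by rw [← S.ρ_spec, h.eq, mul_inv_cancel_right])
  · intro h
    show g * S.ι a = S.ι a * g
    rw [S.mul_ι, h]

/-- `δ g = 1 + g`. -/
def Ext.δ (g : G) : A →+ A := AddMonoidHom.id A + S.ρ g

theorem Ext.δ_apply (g : G) (a : A) : S.δ g a = a + S.ρ g a := rfl

/-- `U g = [A, g]`. -/
def Ext.U (g : G) : AddSubgroup A := (S.δ g).range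

theorem Ext.mem_U {g : G} {x : A} : x ∈ S.U g ↔ ∃ a, S.δ g a = x := AddMonoidHom.mem_range

theorem Ext.δ_mem (g : G) (a : A) : S.δ g a ∈ S.U g := S.mem_U.2 ⟨a, rfl⟩

theorem Ext.δ_eq_zero_iff (g : G) (a : A) : S.δ g a = 0 ↔ S.ρ g a = a := by
  rw [S.δ_apply]
  exact ⟨fun h => (S.eq_of_add_eq_zero h).symm, fun h => by rw [h, S.two]⟩

theorem Ext.ρ_eq (g : G) (a : A) : S.ρ g a = a + S.δ g a := by rw [S.δ_apply, S.add_cancel]

theorem Ext.δ_congr {g h : G} (e : S.π g = S.π h) (a : A) : S.δ g a = S.δ h a := by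
  rw [S.δ_apply, S.δ_apply, S.ρ_congr e]

theorem Ext.U_congr {g h : G} (e : S.π g = S.π h) : S.U g = S.U h := by
  ext x; simp only [S.mem_U, S.δ_congr e]

theorem Ext.ρ_δ (g h : G) (a : A) : S.ρ g (S.δ h a) = S.δ (g * h * g⁻¹) (S.ρ g a) := by
  rw [S.δ_apply, S.δ_apply, map_add, ← S.ρ_mul, ← S.ρ_mul]
  congr 2
  group

theorem Ext.ρ_mem_U {g h : G} {x : A} (hx : x ∈ S.U h) : S.ρ g x ∈ S.U (g * h * g⁻¹) := by
  obtain ⟨a, rfl⟩ := S.mem_U.1 hx
  rw [S.ρ_δ]; exact S.δ_mem _ _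

theorem Ext.δ_ι_conj {d : G} (hd : d * d = 1) (a : A) : S.ι a * d * (S.ι a)⁻¹ = d * S.ι (S.δ d a) := by
  have hi : d⁻¹ = d := inv_eq_of_mul_eq_one_right hd
  rw [S.ι_mul, hi, mul_assoc, S.ι_inv, ← S.ι_add, S.δ_apply, add_comm]

/-- A class of 3-transpositions generating `G`. -/
structure Cls (D : Set G) : Prop where
  ts : Cfsg.IsThreeTranspositionSet D
  conj : ∀ g : G, ∀ d ∈ D, g * d * g⁻¹ ∈ D
  single : ∀ d ∈ D, ∀ e ∈ D, ∃ g : G, g * d * g⁻¹ = e
  gen : Subgroup.closure D = ⊤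
  nonempty : D.Nonempty
  out : ∀ d ∈ D, S.π d ≠ 1

variable {S} {D : Set G}

theorem Cls.sq (C : Cls S D) {d : G} (hd : d ∈ D) : d * d = 1 := ThreeT.sq C.ts hd

theorem Cls.inv (C : Cls S D) {d : G} (hd : d ∈ D) : d⁻¹ = d := ThreeT.inv C.ts hd

theorem Cls.cj (C : Cls S D) {a d : G} (ha : a ∈ D) (hd : d ∈ D) : a * d * a ∈ D := by
  simpa [C.inv ha] using C.conj a d hd

theorem Cls.trans (C : Cls S D) {d : G} (hd : d ∈ D) {x : A} (hx : x ∈ S.U d) : d * S.ι x ∈ D := by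
  obtain ⟨a, rfl⟩ := S.mem_U.1 hx
  rw [← S.δ_ι_conj (C.sq hd)]; exact C.conj _ _ hd

theorem Cls.ρ_ρ (C : Cls S D) {d : G} (hd : d ∈ D) (a : A) : S.ρ d (S.ρ d a) = a := by
  rw [← S.ρ_mul, C.sq hd, S.ρ_one]

theorem Cls.fix_U (C : Cls S D) {d : G} (hd : d ∈ D) {x : A} (hx : x ∈ S.U d) : S.ρ d x = x := by
  obtain ⟨a, rfl⟩ := S.mem_U.1 hx
  rw [S.δ_apply, map_add, C.ρ_ρ hd, add_comm]

theorem Cls.ρ_U_self (C : Cls S D) {a d : G} (ha : a ∈ D) {x : A} (hx : x ∈ S.U d) :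
    S.ρ a x ∈ S.U (a * d * a) := by
  simpa [C.inv ha] using S.ρ_mem_U (g := a) hx

theorem Cls.commute_of_π (C : Cls S D) {d a : G} (hd : d ∈ D) (ha : a ∈ D) (h : Commute (S.π d) (S.π a)) :
    Commute d a := by
  by_contra hn
  have h3 := ThreeT.cube_of_not_commute C.ts hd ha hn
  have h2 : S.π (d * a) ^ 2 = 1 := by
    rw [map_mul, h.mul_pow, pow_two, pow_two, ← map_mul, ← map_mul, C.sq hd, C.sq ha, map_one, one_mul]
  have h3' : S.π (d * a) ^ 3 = 1 := by rw [← map_pow, h3, map_one]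
  have h1 : S.π (d * a) = 1 := by rwa [pow_succ, h2, one_mul] at h3'
  obtain ⟨x, hx⟩ := S.ker _ h1
  rw [← hx, pow_three, ← S.ι_add, ← S.ι_add, S.add_cancel] at h3
  rw [h3] at hx
  exact hn (by rw [inv_eq_of_mul_eq_one_left hx.symm |>.symm, C.inv ha])

theorem Cls.fix_of_commute (C : Cls S D) {d a : G} (hd : d ∈ D) (ha : a ∈ D)
    (h : Commute (S.π d) (S.π a)) {x : A} (hx : x ∈ S.U d) : S.ρ a x = x := by
  have h1 := C.commute_of_π hd ha h
  have h2 := C.commute_of_π (C.trans hd hx) ha (by rwa [map_mul, S.π_ι, mul_one])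
  refine S.commute_ι_iff.1 ?_
  have h3 : Commute a (d⁻¹ * (d * S.ι x)) := (h1.symm.inv_right).mul_right h2.symm
  rwa [inv_mul_cancel_left] at h3

theorem Cls.zero_of_not_commute (C : Cls S D) {d a : G} (hd : d ∈ D) (ha : a ∈ D)
    (h : ¬ Commute (S.π d) (S.π a)) {x : A} (hx : x ∈ S.U d) (hfix : S.ρ a x = x) : x = 0 := by
  have hn : ¬ Commute d a := fun hh => h (hh.map S.π)
  have hn' : ¬ Commute (d * S.ι x) a := fun hh => h (by
    have := hh.map S.π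
    rwa [map_mul, S.π_ι, mul_one] at this)
  have h1 := ThreeT.cube_of_not_commute C.ts hd ha hn
  have h2 := ThreeT.cube_of_not_commute C.ts (C.trans hd hx) ha hn'
  have hda : Commute (d * a) (S.ι x) :=
    (S.commute_ι_iff.2 (C.fix_U hd hx)).mul_left (S.commute_ι_iff.2 hfix)
  have e : d * S.ι x * a = d * a * S.ι x := by
    rw [mul_assoc, (S.commute_ι_iff.2 hfix).symm.eq, ← mul_assoc]
  rw [e, hda.mul_pow, h1, one_mul, pow_three, ← S.ι_add, ← S.ι_add, S.add_cancel, ← S.ι_zero] at h2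
  exact S.ι_inj h2

theorem Cls.exists_ne_zero (C : Cls S D) {d : G} (hd : d ∈ D) : ∃ x ∈ S.U d, x ≠ 0 := by
  by_contra hcon
  push Not at hcon
  exact C.out d hd (S.faith d fun a => (S.δ_eq_zero_iff d a).1 (hcon _ (S.δ_mem d a)))

theorem Cls.image_ts (C : Cls S D) : Cfsg.IsThreeTranspositionSet (S.π '' D) := by
  refine ⟨?_, ?_⟩
  · rintro _ ⟨d, hd, rfl⟩
    exact orderOf_eq_prime (by rw [pow_two, ← map_mul, C.sq hd, map_one]) (C.out d hd)
  · rintro _ ⟨d, hd, rfl⟩ _ ⟨e, he, rfl⟩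
    rw [← map_mul, ← map_pow, ← map_pow]
    rcases C.ts.2 d hd e he with h | h <;> simp [h]

theorem Cls.image_conj (C : Cls S D) : ∀ q : Q, ∀ t ∈ S.π '' D, q * t * q⁻¹ ∈ S.π '' D := by
  rintro q _ ⟨d, hd, rfl⟩
  obtain ⟨g, rfl⟩ := S.surj q
  exact ⟨g * d * g⁻¹, C.conj g d hd, by simp⟩

theorem Cls.image_gen (C : Cls S D) : Subgroup.closure (S.π '' D) = ⊤ := by
  rw [← MonoidHom.map_closure, C.gen, Subgroup.map_top_of_surjective _ S.surj]

theorem Cls.twin (C : Cls S D) [Finite Q] {d a : G} (hd : d ∈ D) (ha : a ∈ D) {x : A}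
    (hxd : x ∈ S.U d) (hxa : x ∈ S.U a) (hx : x ≠ 0) : S.π d = S.π a := by
  refine twins_eq C.image_ts C.image_conj S.core ⟨⟨d, hd, rfl⟩, ⟨a, ha, rfl⟩, ?_⟩
  rintro _ ⟨c, hc, rfl⟩
  constructor
  · intro h
    by_contra hn
    exact hx (C.zero_of_not_commute ha hc (fun hh => hn hh.symm) hxa (C.fix_of_commute hd hc h.symm hxd))
  · intro h
    by_contra hn
    exact hx (C.zero_of_not_commute hd hc (fun hh => hn hh.symm) hxd (C.fix_of_commute ha hc h.symm hxa))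

theorem Cls.exists_not_commute (C : Cls S D) [Finite Q] {d : G} (hd : d ∈ D) :
    ∃ a ∈ D, ¬ Commute (S.π d) (S.π a) := by
  by_contra hcon
  push Not at hcon
  refine C.out d hd (eq_one_of_commute_all S.core C.image_gen ?_ ?_)
  · rw [← map_mul, C.sq hd, map_one]
  · rintro _ ⟨a, ha, rfl⟩
    exact hcon a ha

/-- For non-commuting members `a, b` the map `δ a ∘ δ b` fixes `U a` pointwise. -/
theorem Cls.αβ (C : Cls S D) {a b : G} (ha : a ∈ D) (hb : b ∈ D) (h : ¬ Commute (S.π a) (S.π b))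
    {u : A} (hu : u ∈ S.U a) : S.δ a (S.δ b u) = u := by
  have hbr := ThreeT.braid C.ts ha hb (fun hh => h (hh.map S.π))
  have e : S.ρ a (S.ρ b (S.ρ a u)) = S.ρ b (S.ρ a (S.ρ b u)) := by
    rw [← S.ρ_mul, ← S.ρ_mul, ← S.ρ_mul, ← S.ρ_mul, hbr]
  rw [C.fix_U ha hu] at e
  refine (S.eq_of_add_eq_zero (C.zero_of_not_commute ha hb h (add_mem hu (S.δ_mem a (S.δ b u))) ?_)).symm
  -- `b` fixes `u + δ a (δ b u)`
  have e1 : u + S.δ a (S.δ b u) = S.ρ a (S.ρ b u) + S.δ b u := by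
    rw [S.ρ_eq b u, map_add, C.fix_U ha hu, S.ρ_eq a (S.δ b u), add_assoc]
    congr 1
    rw [add_comm _ (S.δ b u), S.add_cancel]
  rw [e1, map_add, ← e, C.fix_U hb (S.δ_mem b u), S.ρ_eq b u, map_add, C.fix_U ha hu]

end CfsgLib.TTModule
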