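import Cfsg.Agent.Spor3T.Basic
import Cfsg.Agent.Solvable.Basics
import Cfsg.Agent.Monster.InvolutionProducts

/-!
In a group with trivial `2`-core, members of a generating set of 3-transpositions with the same
commuting set are equal, and no involution centralizes the whole set.
-/

set_option autoImplicit false
set_option linter.style.haveILetI false

namespace CfsgLib.TTModule

open Subgroup

universe u

variable {Q : Type u} [Group Q] [Finite Q] {T : Set Q}

omit [Finite Q] in
theorem central_of_commute_all (hgen : Subgroup.closure T = ⊤) {z : Q} (hz : ∀ t ∈ T, Commute z t)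
    (g : Q) : Commute z g := by
  have hg : g ∈ Subgroup.centralizer ({z} : Set Q) :=
    (hgen ▸ (Subgroup.closure_le _).2 fun t ht => Subgroup.mem_centralizer_singleton_iff.2 (hz t ht).symm.eq :
      (⊤ : Subgroup Q) ≤ _) trivial
  exact ((Subgroup.mem_centralizer_singleton_iff.1 hg)).symm

omit [Finite Q] in
theorem eq_one_of_commute_all (hcore : Cfsg.pCore 2 Q = ⊥) (hgen : Subgroup.closure T = ⊤) {z : Q}
    (hz2 : z * z = 1) (hz : ∀ t ∈ T, Commute z t) : z = 1 := by
  have hc := central_of_commute_all hgen hz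
  have hn : (Subgroup.zpowers z).Normal := ⟨fun n hn g => by
    obtain ⟨i, rfl⟩ := hn
    rw [(((hc g).symm).zpow_right i).eq, mul_inv_cancel_right]
    exact ⟨i, rfl⟩⟩
  have hp : IsPGroup 2 (Subgroup.zpowers z) := by
    rintro ⟨n, i, rfl⟩
    refine ⟨1, Subtype.ext ?_⟩
    simp only [SubmonoidClass.coe_pow, OneMemClass.coe_one, pow_one]
    rw [← zpow_natCast, ← zpow_mul, mul_comm i, zpow_mul, zpow_natCast, pow_two, hz2, one_zpow]
  have := CfsgLib.Solvable.le_pCore 2 hn hp (Subgroup.mem_zpowers z)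
  rw [hcore] at this
  exact Subgroup.mem_bot.1 this

/-- The twin relation: same commuting members. -/
def Twin (T : Set Q) (x y : Q) : Prop := x ∈ T ∧ y ∈ T ∧ ∀ c ∈ T, Commute c x ↔ Commute c y

omit [Finite Q] in
theorem Twin.symm {x y : Q} (h : Twin T x y) : Twin T y x := ⟨h.2.1, h.1, fun c hc => (h.2.2 c hc).symm⟩

omit [Finite Q] in
theorem Twin.trans {x y z : Q} (h : Twin T x y) (k : Twin T y z) : Twin T x z :=
  ⟨h.1, k.2.1, fun c hc => (h.2.2 c hc).trans (k.2.2 c hc)⟩

omit [Finite Q] in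
theorem Twin.commute {x y : Q} (h : Twin T x y) : Commute x y := (h.2.2 x h.1).1 (Commute.refl x)

omit [Finite Q] in
theorem Twin.conj (hconj : ∀ g : Q, ∀ t ∈ T, g * t * g⁻¹ ∈ T) {x y : Q} (h : Twin T x y) (g : Q) :
    Twin T (g * x * g⁻¹) (g * y * g⁻¹) := by
  refine ⟨hconj g x h.1, hconj g y h.2.1, fun c hc => ?_⟩
  obtain ⟨c', hc', rfl⟩ : ∃ c' ∈ T, g * c' * g⁻¹ = c :=
    ⟨g⁻¹ * c * g, by simpa using hconj g⁻¹ c hc, by group⟩
  rw [ThreeT.commute_conj_iff, ThreeT.commute_conj_iff]
  exact h.2.2 c' hc'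

/-- The elements fixing every twin class. -/
def twinKernel (hconj : ∀ g : Q, ∀ t ∈ T, g * t * g⁻¹ ∈ T) : Subgroup Q where
  carrier := {n | ∀ c ∈ T, Twin T c (n * c * n⁻¹)}
  one_mem' := fun c hc => by
    simp only [one_mul, inv_one, mul_one]
    exact ⟨hc, hc, fun _ _ => Iff.rfl⟩
  mul_mem' := by
    intro m n hm hn c hc
    have := (hm c hc).trans ((hn c hc).conj hconj m)
    simpa [mul_assoc] using this
  inv_mem' := by
    intro n hn c hc
    simpa [mul_assoc] using (((hn c hc).conj hconj n⁻¹).symm)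

omit [Finite Q] in
theorem twinKernel_normal (hconj : ∀ g : Q, ∀ t ∈ T, g * t * g⁻¹ ∈ T) : (twinKernel hconj).Normal := by
  refine ⟨fun n hn g c hc => ?_⟩
  have hc' : g⁻¹ * c * g ∈ T := by simpa using hconj g⁻¹ c hc
  have := (hn _ hc').conj hconj g
  simpa [mul_assoc] using this

theorem twins_eq (hT : Cfsg.IsThreeTranspositionSet T) (hconj : ∀ g : Q, ∀ t ∈ T, g * t * g⁻¹ ∈ T)
    (hcore : Cfsg.pCore 2 Q = ⊥) {x y : Q} (h : Twin T x y) : x = y := by
  classical
  haveI : Fact (Nat.Prime 2) := ⟨Nat.prime_two⟩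
  set N := twinKernel hconj with hN
  haveI : N.Normal := twinKernel_normal hconj
  have hmem : ∀ {a b : Q}, Twin T a b → a * b ∈ N := by
    intro a b hab c hc
    have ia := ThreeT.inv hT hab.1
    have ib := ThreeT.inv hT hab.2.1
    rw [mul_inv_rev, ia, ib]
    by_cases hca : Commute c a
    · have hcb := (hab.2.2 c hc).1 hca
      have e : a * b * c * (b * a) = c := by
        rw [mul_assoc a b c, ← hcb.eq]
        calc a * (c * b) * (b * a) = a * c * (b * b) * a := by group
          _ = c * a * a := by rw [ThreeT.sq hT hab.2.1, mul_one, hca.eq]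
          _ = c := by rw [mul_assoc, ThreeT.sq hT hab.1, mul_one]
      rw [e]
      exact ⟨hc, hc, fun _ _ => Iff.rfl⟩
    · have hcb : ¬ Commute c b := fun hh => hca ((hab.2.2 c hc).2 hh)
      have h1 := hab.conj hconj c
      rw [ThreeT.inv hT hc, ThreeT.braid hT hc hab.1 hca, ThreeT.braid hT hc hab.2.1 hcb] at h1
      have h2 := h1.conj hconj a
      rw [ia] at h2
      have e1 : a * (a * c * a) * a = c := by
        calc a * (a * c * a) * a = (a * a) * c * (a * a) := by group
          _ = c := by rw [ThreeT.sq hT hab.1, one_mul, mul_one]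
      rw [e1] at h2
      simpa [mul_assoc] using h2
  set s : Set Q := {g | ∃ z, Twin T x z ∧ x * z = g} with hs
  set B := Subgroup.closure s with hB
  have hclass : ∀ {a b : Q}, Twin T x a → Twin T x b → a * b ∈ B := by
    intro a b ha hb
    have e : a * b = (x * a)⁻¹ * (x * b) := by
      rw [mul_inv_rev, ThreeT.inv hT ha.1, ThreeT.inv hT ha.2.1]
      calc a * b = a * (x * x) * b := by rw [ThreeT.sq hT ha.1, mul_one]
        _ = a * x * (x * b) := by group
    rw [e]
    exact mul_mem (inv_mem (Subgroup.subset_closure ⟨a, ha, rfl⟩)) (Subgroup.subset_closure ⟨b, hb, rfl⟩)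
  have hcomm : ∀ g ∈ s, ∀ k ∈ s, g * k = k * g := by
    rintro _ ⟨a, ha, rfl⟩ _ ⟨b, hb, rfl⟩
    exact ((Commute.refl x).mul_right hb.commute).mul_left (ha.commute.symm.mul_right (ha.symm.trans hb).commute)
  have hBN : B ≤ N := (Subgroup.closure_le _).2 (by rintro _ ⟨a, ha, rfl⟩; exact hmem ha)
  have habel := Subgroup.isMulCommutative_closure hcomm
  have hsq : ∀ g ∈ B, g * g = 1 := by
    intro g hg
    induction hg using Subgroup.closure_induction with
    | mem g hg =>
      obtain ⟨a, ha, rfl⟩ := hg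
      have := ThreeT.sq_of_commute (hT.1 x ha.1) (hT.1 a ha.2.1) ha.commute
      rwa [pow_two] at this
    | one => simp
    | mul a b ha hb iha ihb =>
      have e : a * b = b * a := by
        have := habel.is_comm.comm (⟨a, ha⟩ : B) ⟨b, hb⟩
        simpa using congrArg Subtype.val this
      calc a * b * (a * b) = a * (b * a) * b := by group
        _ = (a * a) * (b * b) := by rw [← e]; group
        _ = 1 := by rw [iha, ihb, one_mul]
    | inv a _ iha => rw [← mul_inv_rev, iha, inv_one]
  have hp : IsPGroup 2 (B.subgroupOf N) := fun g =>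
    ⟨1, Subtype.ext (Subtype.ext (by simpa [pow_two] using hsq _ g.2))⟩
  have hn : (B.subgroupOf N).Normal := by
    refine ⟨fun g hg n => ?_⟩
    have key : ∀ b ∈ B, (n : Q) * b * (n : Q)⁻¹ ∈ B := by
      intro b hb
      induction hb using Subgroup.closure_induction with
      | mem b hb =>
        obtain ⟨a, ha, rfl⟩ := hb
        have hx : Twin T x ((n : Q) * x * (n : Q)⁻¹) := n.2 x ha.1
        have ha' : Twin T x ((n : Q) * a * (n : Q)⁻¹) := ha.trans (n.2 a ha.2.1)
        simpa [mul_assoc] using hclass hx ha'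
      | one => simp [one_mem]
      | mul a b _ _ iha ihb => simpa [mul_assoc] using mul_mem iha ihb
      | inv a _ iha => simpa [mul_assoc] using inv_mem iha
    exact key _ hg
  have h1 : (⟨x * y, hmem h⟩ : N) ∈ Cfsg.pCore 2 N :=
    CfsgLib.Solvable.le_pCore 2 hn hp (show x * y ∈ B from Subgroup.subset_closure ⟨y, h, rfl⟩)
  have h2 : x * y ∈ Cfsg.pCore 2 Q :=
    CfsgLib.InvolProducts.pCore_map_le_pCore 2 ⟨_, h1, rfl⟩
  rw [hcore, Subgroup.mem_bot] at h2
  rw [← ThreeT.inv hT h.1]
  exact inv_eq_of_mul_eq_one_right h2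

end CfsgLib.TTModule
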